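import Mathlib

/-!
A fast code for square matrices over the integers modulo 2 of size 112: rows in lanes of 112 bits
of one natural number; a product costs 112 big-number multiplications.
-/

set_option autoImplicit false
set_option exponentiation.threshold 13000

namespace Cfsg.Agent.Lib.J4Rep

abbrev Mat112 : Type := Matrix (Fin 112) (Fin 112) (ZMod 2)

def lane (N k : ℕ) : ℕ :=
  Nat.mod (Nat.shiftRight N (Nat.mul 112 k)) (Nat.shiftLeft 1 112)

def ones : ℕ → ℕ
  | 0 => 0
  | n + 1 => Nat.add 1 (Nat.mul (Nat.shiftLeft 1 112) (ones n))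

/-- One unit in every lane. -/
def lanesMask : ℕ := ones 112

def mulAux (mask B A : ℕ) : ℕ → ℕ
  | 0 => 0
  | i + 1 => Nat.xor (mulAux mask B A i) (Nat.mul (Nat.land (Nat.shiftRight A i) mask) (lane B i))

/-- The product of coded matrices. -/
def mul (mask A B : ℕ) : ℕ := mulAux mask B A 112

def oneAux : ℕ → ℕ
  | 0 => 0
  | i + 1 => Nat.add (oneAux i) (Nat.shiftLeft 1 (113 * i))

/-- The identity. -/
def one : ℕ := oneAux 112

theorem lane_eq (N k : ℕ) : lane N k = N / 2 ^ (112 * k) % 2 ^ 112 := by
  show N >>> (112 * k) % (1 <<< 112) = _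
  rw [Nat.shiftRight_eq_div_pow, Nat.one_shiftLeft]

theorem lane_lt (N k : ℕ) : lane N k < 2 ^ 112 := by
  rw [lane_eq]; exact Nat.mod_lt _ (Nat.two_pow_pos 112)

theorem lane_succ (N k : ℕ) : lane N (k + 1) = lane (N / 2 ^ 112) k := by
  rw [lane_eq, lane_eq, Nat.div_div_eq_div_mul, ← pow_add,
    show 112 + 112 * k = 112 * (k + 1) by ring]

theorem testBit_lane (N k j : ℕ) :
    (lane N k).testBit j = (decide (j < 112) && N.testBit (112 * k + j)) := by
  rw [lane_eq, Nat.testBit_mod_two_pow, ← Nat.shiftRight_eq_div_pow, Nat.testBit_shiftRight]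

theorem lane_mask_mul : ∀ (n X c k : ℕ), c < 2 ^ 112 → k < n →
    lane (Nat.land X (ones n) * c) k = (X / 2 ^ (112 * k) % 2) * c
  | 0, _, _, k, _, h => by omega
  | n + 1, X, c, k, hc, hk => by
    have hones : ones (n + 1) = 2 ^ 112 * ones n + 1 := by
      show 1 + (1 <<< 112) * ones n = _
      rw [Nat.one_shiftLeft, Nat.add_comm]
    have hsplit : Nat.land X (ones (n + 1)) = X % 2 + 2 ^ 112 * Nat.land (X / 2 ^ 112) (ones n) := by
      show X &&& ones (n + 1) = _ + _ * (X / 2 ^ 112 &&& ones n)
      apply Nat.eq_of_testBit_eq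
      intro j
      rw [Nat.testBit_and, hones, Nat.testBit_two_pow_mul_add _ (Nat.one_lt_two_pow (by norm_num)),
        show X % 2 + 2 ^ 112 * (X / 2 ^ 112 &&& ones n) = 2 ^ 112 * (X / 2 ^ 112 &&& ones n) + X % 2 by
          ring,
        Nat.testBit_two_pow_mul_add _ (lt_of_lt_of_le (Nat.mod_lt X two_pos)
          (Nat.le_self_pow (by norm_num) 2))]
      split
      · rw [show X % 2 = X % 2 ^ 1 by norm_num, Nat.testBit_mod_two_pow]
        rcases Nat.eq_zero_or_pos j with rfl | hj
        · simp
        · have h2 : (1 : ℕ).testBit j = false := Nat.testBit_lt_two_pow (Nat.one_lt_two_pow (by omega))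
          simp [h2, show ¬ j < 1 by omega]
      · rw [Nat.testBit_and, ← Nat.shiftRight_eq_div_pow, Nat.testBit_shiftRight,
          show 112 + (j - 112) = j by omega]
    rw [hsplit]
    have hlt : X % 2 * c < 2 ^ 112 := by
      rcases Nat.mod_two_eq_zero_or_one X with h | h <;> rw [h]
      · rw [Nat.zero_mul]; exact Nat.two_pow_pos 112
      · rw [Nat.one_mul]; exact hc
    cases k with
    | zero =>
      rw [lane_eq, Nat.mul_zero, pow_zero, Nat.div_one, Nat.div_one, Nat.add_mul, Nat.mul_assoc,
        Nat.add_mul_mod_self_left, Nat.mod_eq_of_lt hlt]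
    | succ k =>
      have key : ∀ a b d P : ℕ, 0 < P → a * d < P → (a + P * b) * d / P = b * d := by
        intro a b d P hP h
        rw [Nat.add_mul, Nat.mul_assoc, Nat.add_mul_div_left _ _ hP, Nat.div_eq_of_lt h, Nat.zero_add]
      rw [lane_succ, key _ _ _ _ (Nat.two_pow_pos 112) hlt,
        lane_mask_mul n _ c k hc (Nat.lt_of_succ_lt_succ hk), Nat.div_div_eq_div_mul, ← pow_add,
        show 112 + 112 * k = 112 * (k + 1) by ring]

/-- A bit as a residue modulo 2. -/
def bit (b : Bool) : ZMod 2 := if b then 1 else 0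

theorem bit_xor (a b : Bool) : bit (a ^^ b) = bit a + bit b := by
  cases a <;> cases b <;> decide

/-- The matrix with a given code. -/
def val (N : ℕ) : Mat112 := Matrix.of fun i j => bit ((lane N i.1).testBit j.1)

theorem bit_mulAux (B A : ℕ) {i : ℕ} (hi : i < 112) {j : ℕ} :
    ∀ n ≤ 112, bit ((lane (mulAux lanesMask B A n) i).testBit j) =
      ∑ k ∈ Finset.range n, bit ((lane A i).testBit k) * bit ((lane B k).testBit j)
  | 0, _ => by simp [mulAux, lane_eq, bit]
  | n + 1, hn => by
    rw [Finset.sum_range_succ, ← bit_mulAux B A hi n (by omega)]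
    show bit ((lane (mulAux lanesMask B A n ^^^ Nat.land (A >>> n) (ones 112) * lane B n) i).testBit j) = _
    have hx : ∀ a b, (lane (a ^^^ b) i).testBit j =
        ((lane a i).testBit j ^^ (lane b i).testBit j) := by
      intro a b
      simp only [testBit_lane, Nat.testBit_xor]
      cases decide (j < 112) <;> simp
    rw [hx, bit_xor, lane_mask_mul 112 _ _ i (lane_lt B n) hi]
    congr 1
    have e : A >>> n / 2 ^ (112 * i) % 2 = ((lane A i).testBit n).toNat := by
      rw [testBit_lane, decide_eq_true (show n < 112 by omega), Bool.true_and, Nat.toNat_testBit,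
        Nat.shiftRight_eq_div_pow, Nat.div_div_eq_div_mul, ← pow_add, Nat.add_comm n]
    rw [e]
    cases (lane A i).testBit n <;> simp [bit]

theorem val_mul (A B : ℕ) : val (mul lanesMask A B) = val A * val B := by
  ext i j
  rw [Matrix.mul_apply]
  show bit ((lane (mulAux lanesMask B A 112) i.1).testBit j.1) = _
  rw [bit_mulAux B A i.2 112 le_rfl, Finset.sum_range]
  rfl

theorem lane_one_ok : ((List.range 112).all fun i =>
    Nat.beq (lane one i) (Nat.shiftLeft 1 i)) = true := by decide +kernel

theorem val_one : val one = 1 := by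
  ext i j
  show bit ((lane one i.1).testBit j.1) = _
  rw [Nat.eq_of_beq_eq_true (List.all_eq_true.1 lane_one_ok i.1 (List.mem_range.2 i.2)),
    show Nat.shiftLeft 1 i.1 = 2 ^ i.1 from Nat.one_shiftLeft i.1, Nat.testBit_two_pow, Matrix.one_apply]
  by_cases h : i = j
  · subst h; simp [bit]
  · simp [bit, h, Fin.val_ne_of_ne h]

/-- The product of a word of coded matrices. -/
def evalWord (mask e : ℕ) (l : List ℕ) : ℕ := l.foldl (fun A B => mul mask A B) e

theorem val_evalWord (e : ℕ) : ∀ l : List ℕ, val (evalWord lanesMask e l) = val e * (l.map val).prod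
  | [] => by simp [evalWord]
  | a :: l => by
    show val (evalWord lanesMask (mul lanesMask e a) l) = _
    rw [val_evalWord _ l, val_mul, List.map_cons, List.prod_cons, mul_assoc]

/-- A boolean check that a word of coded matrices evaluates to the identity. -/
def isOneWord (l : List ℕ) : Bool := Nat.beq (evalWord lanesMask one l) one

theorem prod_eq_one {l : List ℕ} (h : isOneWord l = true) : (l.map val).prod = 1 := by
  have := val_evalWord one l
  rw [Nat.eq_of_beq_eq_true h, val_one, one_mul] at this
  exact this.symm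

theorem val_ne_one {N : ℕ} {i j : Fin 112} (hij : i ≠ j) (h : (lane N i.1).testBit j.1 = true) :
    val N ≠ 1 := by
  intro e
  have := congrFun (congrFun e i) j
  rw [Matrix.one_apply_ne hij] at this
  simp [val, h, bit] at this

end Cfsg.Agent.Lib.J4Rep
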