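import Cfsg.Prelude.Def_Spor_J4
import Cfsg.Agent.Lib.J4Rep.Code
import Cfsg.Agent.Lib.J4Rep.Data

/-! The presented group J4 maps to matrices of size 112 modulo 2 with `x` not the identity. -/

set_option autoImplicit false

namespace Cfsg.Agent.Lib.J4Rep

open Cfsg.Spor Cfsg.Spor.J4

/-- The code of a signed generator. -/
def dat : Gen × Bool → ℕ
  | (.x, _) => mX
  | (.t, _) => mT
  | (.y, true) => mY
  | (.y, false) => mYi

theorem inv_ok : isOneWord [mX, mX] = true ∧ isOneWord [mT, mT] = true ∧
    isOneWord [mY, mYi] = true ∧ isOneWord [mYi, mY] = true := by decide +kernel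

theorem dat_inv (g : Gen) (s : Bool) : val (dat (g, s)) * val (dat (g, !s)) = 1 := by
  obtain ⟨hx, ht, hy, hy'⟩ := inv_ok
  have h : ∀ a b : ℕ, isOneWord [a, b] = true → val a * val b = 1 := by
    intro a b h
    have := prod_eq_one h
    rw [List.map_cons, List.map_cons, List.map_nil, List.prod_cons, List.prod_singleton] at this
    exact this
  match g, s with
  | .x, true => exact h mX mX hx
  | .x, false => exact h mX mX hx
  | .t, true => exact h mT mT ht
  | .t, false => exact h mT mT ht
  | .y, true => exact h mY mYi hy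
  | .y, false => exact h mYi mY hy'

/-- The generator images. -/
def img (g : Gen) : GL (Fin 112) (ZMod 2) :=
  ⟨val (dat (g, true)), val (dat (g, false)), dat_inv g true, dat_inv g false⟩

theorem rels_ok : (extra.all fun r => isOneWord ((FreeGroup.toWord r).map dat)) = true := by
  decide +kernel

theorem lift_rel {r : FreeGroup Gen} (hr : r ∈ extra) : FreeGroup.lift img r = 1 := by
  have h := prod_eq_one (List.all_eq_true.1 rels_ok r hr)
  rw [← FreeGroup.mk_toWord (x := r), FreeGroup.lift_mk]
  apply Units.ext
  rw [← Units.coeHom_apply, map_list_prod, List.map_map, Units.val_one]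
  refine Eq.trans ?_ h
  rw [List.map_map]
  congr 1
  refine List.map_congr_left fun p _ => ?_
  obtain ⟨g, _ | _⟩ := p <;> rfl

theorem img_x_ne_one : img Gen.x ≠ 1 := by
  intro h
  have e : val mX = 1 := congrArg Units.val h
  exact val_ne_one (i := ⟨0, by decide⟩) (j := ⟨109, by decide⟩) (by decide) (by decide +kernel) e

/-- A homomorphism of the presented group which does not kill `x`. -/
theorem exists_rep : ∃ f : Cfsg.Spor.J4 →* GL (Fin 112) (ZMod 2),
    f (PresentedGroup.of Gen.x) ≠ 1 := by
  have hrel : ∀ r ∈ coxRelators edges ∪ {r | r ∈ extra}, FreeGroup.lift img r = 1 := by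
    rintro r (⟨x, hx, -⟩ | hr)
    · simp [coxNodes, edges] at hx
    · exact lift_rel hr
  exact ⟨PresentedGroup.toGroup hrel, by rw [PresentedGroup.toGroup.of]; exact img_x_ne_one⟩

end Cfsg.Agent.Lib.J4Rep
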