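import Cfsg.Agent.Lib.J4Rep.LowerData
import Cfsg.Agent.Lib.J4Cons78.SubH

/-! The order of J4 divides the order of its image in GL(112,2): the lower bound for the order certificate. -/

set_option autoImplicit false
set_option exponentiation.threshold 13000
set_option maxRecDepth 100000
set_option Elab.async false
set_option maxHeartbeats 400000

open scoped Pointwise

namespace Cfsg.Agent.Lib.J4Rep

open Cfsg Cfsg.Agent.Lib.J4Cons78
open Cfsg.Agent.Lib.M24Pres (R7 wval nonempty_equiv wval_map)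

/-- The group of matrices. -/
abbrev GL112 : Type := GL (Fin 112) (ZMod 2)

theorem rep_eq {g h : G} (e : mat g = mat h) : rep g = rep h := Units.ext e

theorem rep_gval_eq {l l' : List ℕ} (e : Nat.beq (J4Cons78.wcode l) (J4Cons78.wcode l') = true) :
    rep (gval l) = rep (gval l') :=
  rep_eq (by rw [mat, mat, rep_gval, rep_gval, Nat.eq_of_beq_eq_true e])

/-- The image of M24. -/
noncomputable def imM : Subgroup GL112 := Subgroup.closure {rep gX, rep gY}

theorem equiv_imM : Nonempty (imM ≃* M24) := by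
  refine nonempty_equiv (rep gX) (rep gY) (fun r hr => ?_) rep_gX_ne_one
  have h := List.all_eq_true.1 R7_codes r hr
  simp only [Bool.and_eq_true, List.all_eq_true, Nat.blt_eq] at h
  rw [← wval_map, ← gval_eq_wval r h.2]
  exact (rep_gval_eq (l' := []) h.1).trans (map_one rep)

theorem card_imM : Nat.card imM = 244823040 := by
  obtain ⟨e⟩ := equiv_imM
  rw [Nat.card_congr e.toEquiv, Golay.card_M24]

theorem elem_rep : Elem (fun i => rep (bA i)) 11 := by
  have h := List.all_eq_true.1 comm_ok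
  simp only [List.mem_range, Bool.and_eq_true, List.all_eq_true] at h
  refine ⟨fun i j hi hj => ?_, fun i hi => ?_⟩
  · have key : ∀ i j : ℕ, i < 11 → j < i → Commute (rep (bA i)) (rep (bA j)) := by
      intro i j hi hj
      show _ * _ = _ * _
      rw [← map_mul, ← map_mul]
      refine rep_eq ?_
      rw [mat_mul, mat_mul, mat_bA hi, mat_bA (hj.trans hi), ← val_mul, ← val_mul,
        Nat.eq_of_beq_eq_true ((h i hi).2 j hj)]
    rcases lt_trichotomy i j with hlt | rfl | hlt
    · exact (key j i hj hlt).symm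
    · exact Commute.refl _
    · exact key i j hi hlt
  · rw [← map_mul, ← map_one rep]
    refine rep_eq ?_
    rw [mat_mul, mat_bA hi, ← val_mul, Nat.eq_of_beq_eq_true (h i hi).1, val_one, mat_one]

theorem repA_xor (u v : ℕ) : rep (emb (u ^^^ v)) = rep (emb u) * rep (emb v) := by
  simp only [emb, prodBits_map]
  exact prodBits_xor u v 11 elem_rep

theorem repA_self (v : ℕ) : rep (emb v) * rep (emb v) = 1 := by
  rw [← repA_xor, Nat.xor_self, emb_zero, map_one]

theorem repA_conj (g : G) (gc gic : ℕ) (m : List ℕ) (hg : mat g = val gc) (hgi : mat g⁻¹ = val gic)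
    (hm : m.length = 11) (h : ∀ i < 11,
      Nat.beq (mul lanesMask (mul lanesMask gic (bCode i)) gc) (aCode (m.getD i 0) 11) = true) :
    ∀ v < 2 ^ 11, (rep g)⁻¹ * rep (emb v) * rep g = rep (emb (lin m v)) := by
  intro v hv
  simp only [emb, prodBits_map]
  refine conj_prodBits elem_rep (rep g) m hm.symm (fun i hi => ?_) v hv
  rw [← map_inv, ← map_mul, ← map_mul, ← prodBits_map]
  refine rep_eq ?_
  rw [mat_mul, mat_mul, hg, hgi, mat_bA hi]
  show _ = mat (emb _)
  rw [mat_emb, ← Nat.eq_of_beq_eq_true (h i hi), val_mul, val_mul]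

theorem repA_conj_x : ∀ v < 2 ^ 11, (rep gX)⁻¹ * rep (emb v) * rep gX = rep (emb (lin mx v)) := by
  refine repA_conj gX mX mX mx (rep_glett 0) ?_ conj_ok.1 fun i hi => ?_
  · rw [← mul_eq_one_iff_eq_inv.1 gX_sq]; exact rep_glett 0
  · have h := List.all_eq_true.1 conj_ok.2.2 i (List.mem_range.2 hi)
    simp only [Bool.and_eq_true] at h
    exact h.1

theorem repA_conj_y : ∀ v < 2 ^ 11, (rep gY)⁻¹ * rep (emb v) * rep gY = rep (emb (lin my v)) := by
  refine repA_conj gY mY mYi my (rep_glett 1) (rep_glett 2) conj_ok.2.1 fun i hi => ?_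
  have h := List.all_eq_true.1 conj_ok.2.2 i (List.mem_range.2 hi)
  simp only [Bool.and_eq_true] at h
  exact h.2

theorem repA_eq_one {v : ℕ} (hv : v < 2 ^ 11) (h : rep (emb v) = 1) : v = 0 := by
  by_contra h0
  have hall := irred (P := fun w => w < 2 ^ 11 ∧ rep (emb w) = 1) ⟨by norm_num, by rw [emb_zero, map_one]⟩
    (fun u w hu hw => ⟨Nat.xor_lt_two_pow hu.1 hw.1, by rw [repA_xor, hu.2, hw.2, one_mul]⟩)
    (fun w hw hPw => ⟨lin_my_lt _, by
      rw [← repA_conj_y _ (lin_mx_lt w), ← repA_conj_x w hw, hPw.2]; group⟩) hv h0 ⟨hv, h⟩ 1 (by norm_num)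
  obtain ⟨i, hi, hb⟩ := List.any_eq_true.1 gU_code
  have e : val (bCode 0) = 1 := by
    rw [← mat_bA (by norm_num : (0 : ℕ) < 11), ← prodBits_unit bA (by norm_num : 0 < 11)]
    show ((rep (emb (2 ^ 0)) : GL112) : Mat112) = 1
    rw [pow_zero, hall.2, Units.val_one]
  have hi' : i < 112 := List.mem_range.1 hi
  have hlane : lane (bCode 0) i ≠ Nat.shiftLeft 1 i := fun h => by
    rw [h, show Nat.beq (Nat.shiftLeft 1 i) (Nat.shiftLeft 1 i) = true from Nat.beq_refl _] at hb
    simp at hb
  apply hlane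
  apply Nat.eq_of_testBit_eq
  intro j
  rw [show Nat.shiftLeft 1 i = 2 ^ i from Nat.one_shiftLeft i, Nat.testBit_two_pow]
  by_cases hj : j < 112
  · have := congrFun (congrFun e ⟨i, hi'⟩) ⟨j, hj⟩
    simp only [val, Matrix.of_apply, Matrix.one_apply, Fin.mk.injEq] at this
    by_cases hij : i = j
    · subst hij
      cases hb' : (lane (bCode 0) i).testBit i
      · simp [hb', bit] at this
      · simp
    · cases hb' : (lane (bCode 0) i).testBit j
      · simp [hij]
      · simp [hb', hij, bit] at this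
  · rw [Nat.testBit_lt_two_pow (lt_of_lt_of_le (lane_lt _ _) (Nat.pow_le_pow_right (by norm_num) (by omega)))]
    exact (decide_eq_false (by omega)).symm

theorem repA_inv (u : ℕ) : rep (emb u) = (rep (emb u))⁻¹ :=
  mul_eq_one_iff_eq_inv.1 (repA_self u)

theorem rep_of (a : Cfsg.Spor.J4.Gen) : rep (PresentedGroup.of a) = img a := PresentedGroup.toGroup.of _

attribute [local irreducible] rep

/-- The image of the 2^11. -/
noncomputable def imA : Subgroup GL112 where
  carrier := {g | ∃ v, v < 2 ^ 11 ∧ rep (emb v) = g}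
  one_mem' := ⟨0, by norm_num, by rw [emb_zero, map_one]⟩
  mul_mem' := fun {a b} ha hb => Exists.elim ha fun u hu => Exists.elim hb fun v hv =>
    ⟨u ^^^ v, Nat.xor_lt_two_pow hu.1 hv.1, by rw [repA_xor, hu.2, hv.2]⟩
  inv_mem' := fun {a} ha => Exists.elim ha fun u hu =>
    ⟨u, hu.1, (repA_inv u).trans (congrArg (fun g : GL112 => g⁻¹) hu.2)⟩

theorem card_imA : Nat.card imA = 2 ^ 11 := by
  let f : Fin (2 ^ 11) → imA := fun v => ⟨rep (emb v), v, v.2, rfl⟩
  have hb : Function.Bijective f := by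
    refine ⟨fun u v h => Fin.ext ?_, ?_⟩
    · have h' : rep (emb u) = rep (emb v) := congrArg Subtype.val h
      exact Nat.xor_eq_zero_iff.1 (repA_eq_one (Nat.xor_lt_two_pow u.2 v.2) (by rw [repA_xor, h', repA_self]))
    · rintro ⟨_, v, hv, rfl⟩
      exact ⟨⟨v, hv⟩, rfl⟩
  rw [← Nat.card_congr (Equiv.ofBijective f hb), Nat.card_eq_fintype_card, Fintype.card_fin]

/-- The order of the product of subgroups with trivial intersection, one normalising the other. -/
theorem card_sup_of_disjoint {H : Type*} [Group H] (A M : Subgroup H)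
    (hn : M ≤ Subgroup.normalizer (A : Set H)) (hd : ∀ g ∈ A, g ∈ M → g = 1) :
    Nat.card (A ⊔ M : Subgroup H) = Nat.card A * Nat.card M := by
  let f : A × M → (A ⊔ M : Subgroup H) := fun p => ⟨p.1.1 * p.2.1, Subgroup.mul_mem_sup p.1.2 p.2.2⟩
  have hb : Function.Bijective f := by
    refine ⟨fun p q h => ?_, fun g => ?_⟩
    · have h' : p.1.1 * p.2.1 = q.1.1 * q.2.1 := congrArg Subtype.val h
      have he : q.1.1⁻¹ * p.1.1 = q.2.1 * p.2.1⁻¹ := by
        rw [eq_mul_inv_iff_mul_eq, mul_assoc, h', inv_mul_cancel_left]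
      have hm := hd _ (Subgroup.mul_mem _ (Subgroup.inv_mem _ q.1.2) p.1.2)
        (he ▸ Subgroup.mul_mem _ q.2.2 (Subgroup.inv_mem _ p.2.2))
      have e1 : q.1.1 = p.1.1 := inv_mul_eq_one.1 hm
      rw [e1] at h'
      exact Prod.ext (Subtype.ext e1.symm) (Subtype.ext (mul_left_cancel h'))
    · have hg : g.1 ∈ ((A ⊔ M : Subgroup H) : Set H) := g.2
      rw [Subgroup.coe_mul_of_right_le_normalizer_left _ _ hn] at hg
      obtain ⟨a, ha, m, hm, e⟩ := hg
      exact ⟨(⟨a, ha⟩, ⟨m, hm⟩), Subtype.ext e⟩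
  rw [← Nat.card_congr (Equiv.ofBijective f hb), Nat.card_prod]

section Abstract

variable {K : Type*} [Group K]

theorem mem_normalizer_of_conj (A : Subgroup K) [Finite A] {g : K}
    (h : ∀ a ∈ A, g⁻¹ * a * g ∈ A) : g ∈ Subgroup.normalizer (A : Set K) := by
  have hmap : A.map (MulAut.conj g⁻¹).toMonoidHom = A := by
    refine Subgroup.eq_of_le_of_card_ge ?_ (le_of_eq (Subgroup.card_map_of_injective (MulAut.conj g⁻¹).injective).symm)
    rintro _ ⟨a, ha, rfl⟩
    simpa [MulAut.conj_apply] using h a ha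
  refine inv_inv g ▸ Subgroup.inv_mem _ ?_
  rw [Subgroup.mem_normalizer_iff]
  intro n
  constructor
  · intro hn
    rw [← hmap]
    exact ⟨n, hn, by simp⟩
  · intro hn
    rw [← hmap] at hn
    obtain ⟨m, hm, he⟩ := hn
    have : m = n := by simpa [MulAut.conj_apply] using he
    exact this ▸ hm

theorem closure_pair_le_normalizer (A : Subgroup K) [Finite A] {a b : K}
    (ha : ∀ x ∈ A, a⁻¹ * x * a ∈ A) (hb : ∀ x ∈ A, b⁻¹ * x * b ∈ A) :
    Subgroup.closure {a, b} ≤ Subgroup.normalizer (A : Set K) := by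
  rw [Subgroup.closure_le]
  rintro g (rfl | rfl)
  exacts [mem_normalizer_of_conj A ha, mem_normalizer_of_conj A hb]

theorem eq_one_of_simple_meet (A M : Subgroup K) (hs : IsSimpleGroup M) [Finite A]
    (hn : M ≤ Subgroup.normalizer (A : Set K)) (hlt : Nat.card A < Nat.card M) {g : K} (hA : g ∈ A)
    (hM : g ∈ M) : g = 1 := by
  haveI := hs
  have hn' : (A.subgroupOf M).Normal := Subgroup.normal_subgroupOf_of_le_normalizer hn
  rcases hn'.eq_bot_or_eq_top with h | h
  · have hmem : (⟨g, hM⟩ : M) ∈ A.subgroupOf M := hA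
    rw [h, Subgroup.mem_bot] at hmem
    exact congrArg Subtype.val hmem
  · rw [Subgroup.subgroupOf_eq_top] at h
    exact absurd (Subgroup.card_le_of_le h) (not_le.2 hlt)

theorem eq_pow_of_zpow {g : K} (hg : g ^ 11 = 1) (n : ℤ) : ∃ k ≤ 10, g ^ n = g ^ k := by
  refine ⟨(n % 11).toNat, by omega, ?_⟩
  rw [← zpow_natCast, Int.toNat_of_nonneg (Int.emod_nonneg _ (by norm_num))]
  conv_lhs => rw [← Int.emod_add_mul_ediv n 11, zpow_add, zpow_mul,
    show g ^ (11 : ℤ) = 1 from by rw [← hg, ← zpow_natCast]; rfl, one_zpow, mul_one]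

theorem disjoint_of_prime (P : Subgroup K) {g : K} (hg : g ^ 11 = 1) (hgP : g ∉ P) :
    ∀ x ∈ P, x ∈ Subgroup.zpowers g → x = 1 := by
  intro x hxP hxg
  obtain ⟨n, rfl⟩ := hxg
  by_contra hne
  apply hgP
  have h11 : g ^ (11 : ℤ) = 1 := by rw [← hg, ← zpow_natCast]; rfl
  have hn : ¬ (11 : ℤ) ∣ n := fun ⟨k, hk⟩ => hne (by
    show g ^ n = 1
    rw [hk, zpow_mul, h11, one_zpow])
  obtain ⟨a, b, hab⟩ : IsCoprime (11 : ℤ) n :=
    ((Nat.prime_iff_prime_int.1 (by norm_num : Nat.Prime 11)).coprime_iff_not_dvd).2 hn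
  have h2 : (g ^ n) ^ b = g := by
    rw [← zpow_mul]
    have hb : n * b = 1 + 11 * (-a) := by linear_combination hab
    rw [hb, zpow_add, zpow_one, zpow_mul, h11, one_zpow, mul_one]
  rw [← h2]
  exact Subgroup.zpow_mem _ hxP b

theorem dvd_of_heisenberg [Finite K] (R : Subgroup K) {A B C : K} (hC : A * B = B * A * C) (hAR : A ∈ R)
    (hBR : B ∈ R) (cAC : Commute A C) (cBC : Commute B C) (hA : A ^ 11 = 1) (hB : B ^ 11 = 1) (hC11 : C ^ 11 = 1)
    (hA1 : A ≠ 1) (hC_not : ∀ i ≤ 10, A ^ i ≠ C) (hB_not : ∀ i ≤ 10, ∀ j ≤ 10, A ^ i * C ^ j ≠ B) :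
    11 ^ 3 ∣ Nat.card R := by
  haveI : Fact (Nat.Prime 11) := ⟨by norm_num⟩
  have ordp : ∀ g : K, g ^ 11 = 1 → g ≠ 1 → Nat.card (Subgroup.zpowers g) = 11 := fun g h h' => by
    rw [Nat.card_zpowers, orderOf_eq_prime h h']
  have hCn : C ∉ Subgroup.zpowers A := by
    rintro ⟨n, hn⟩
    obtain ⟨k, hk, e⟩ := eq_pow_of_zpow hA n
    exact hC_not k hk (e.symm.trans hn)
  have hn1 : Subgroup.zpowers C ≤ Subgroup.normalizer ((Subgroup.zpowers A : Subgroup K) : Set K) := by
    refine le_trans ?_ (Subgroup.centralizer_le_normalizer _)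
    rw [Subgroup.zpowers_le, Subgroup.mem_centralizer_iff]
    rintro _ ⟨n, rfl⟩
    exact (cAC.zpow_left n).eq
  set P2 := Subgroup.zpowers A ⊔ Subgroup.zpowers C
  have hBn : B ∉ P2 := by
    intro h
    have h' : B ∈ ((Subgroup.zpowers A ⊔ Subgroup.zpowers C : Subgroup K) : Set K) := h
    rw [Subgroup.coe_mul_of_right_le_normalizer_left _ _ hn1] at h'
    obtain ⟨_, ⟨n, rfl⟩, _, ⟨m, rfl⟩, e⟩ := h'
    obtain ⟨i, hi, ei⟩ := eq_pow_of_zpow hA n
    obtain ⟨j, hj, ej⟩ := eq_pow_of_zpow hC11 m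
    exact hB_not i hi j hj (by rw [← ei, ← ej]; exact e)
  have hC1 : C ≠ 1 := fun h => hCn (h ▸ Subgroup.one_mem _)
  have hB1 : B ≠ 1 := fun h => hBn (h ▸ Subgroup.one_mem _)
  have hP2 : Nat.card P2 = 11 * 11 := by
    rw [card_sup_of_disjoint _ _ hn1 (disjoint_of_prime _ hC11 hCn), ordp A hA hA1, ordp C hC11 hC1]
  have hn2 : Subgroup.zpowers B ≤ Subgroup.normalizer (P2 : Set K) := by
    rw [Subgroup.zpowers_le]
    refine mem_normalizer_of_conj _ fun a ha => ?_
    have hle : P2.map (MulAut.conj B⁻¹).toMonoidHom ≤ P2 := by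
      rw [Subgroup.map_sup, sup_le_iff, MonoidHom.map_zpowers, MonoidHom.map_zpowers, Subgroup.zpowers_le,
        Subgroup.zpowers_le]
      refine ⟨?_, ?_⟩
      · show B⁻¹ * A * B⁻¹⁻¹ ∈ P2
        have e : B⁻¹ * A * B⁻¹⁻¹ = A * C := by
          rw [inv_inv, mul_assoc, hC]; group
        rw [e]
        exact Subgroup.mul_mem_sup (Subgroup.mem_zpowers A) (Subgroup.mem_zpowers C)
      · show B⁻¹ * C * B⁻¹⁻¹ ∈ P2
        rw [inv_inv, mul_assoc, ← cBC.eq, inv_mul_cancel_left]
        exact Subgroup.mem_sup_right (Subgroup.mem_zpowers C)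
    simpa [MulAut.conj_apply] using hle ⟨a, ha, rfl⟩
  have hle : P2 ⊔ Subgroup.zpowers B ≤ R := by
    refine sup_le (sup_le (Subgroup.zpowers_le.2 hAR) (Subgroup.zpowers_le.2 ?_)) (Subgroup.zpowers_le.2 hBR)
    have e : C = (B * A)⁻¹ * (A * B) := by rw [hC]; group
    rw [e]
    exact R.mul_mem (R.inv_mem (R.mul_mem hBR hAR)) (R.mul_mem hAR hBR)
  have := Subgroup.card_dvd_of_le hle
  rw [card_sup_of_disjoint _ _ hn2 (disjoint_of_prime _ hB hBn), hP2, ordp B hB hB1] at this
  exact (show (11 : ℕ) ^ 3 = 11 * 11 * 11 by norm_num) ▸ this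

theorem range_le_closure {α : Type*} {rels : Set (FreeGroup α)} (f : PresentedGroup rels →* K) :
    f.range ≤ Subgroup.closure (Set.range fun a => f (PresentedGroup.of a)) := by
  rintro _ ⟨g, rfl⟩
  have hg : g ∈ Subgroup.closure (Set.range fun a => (PresentedGroup.of a : PresentedGroup rels)) := by
    rw [show Subgroup.closure (Set.range fun a => (PresentedGroup.of a : PresentedGroup rels)) = ⊤ from
      PresentedGroup.closure_range_of _]
    trivial
  have h := Subgroup.mem_map_of_mem f hg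
  rwa [MonoidHom.map_closure, ← Set.range_comp] at h

end Abstract

theorem dvd_of_H : 2 ^ 11 * 244823040 ∣ Nat.card (rep : G →* GL112).range := by
  haveI : Finite imA := Nat.finite_of_card_ne_zero (by rw [card_imA]; norm_num)
  have hnorm : imM ≤ Subgroup.normalizer (imA : Set GL112) := by
    refine closure_pair_le_normalizer imA ?_ ?_ <;> intro x hx <;> refine Exists.elim hx fun v hv => ?_
    · exact ⟨_, lin_mx_lt v, by rw [← hv.2]; exact (repA_conj_x v hv.1).symm⟩
    · exact ⟨_, lin_my_lt v, by rw [← hv.2]; exact (repA_conj_y v hv.1).symm⟩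
  obtain ⟨e⟩ := equiv_imM
  haveI : IsSimpleGroup M24 := Golay.isSimple_M24
  haveI : Nontrivial imM := e.toEquiv.nontrivial
  have hsim : IsSimpleGroup imM :=
    IsSimpleGroup.isSimpleGroup_of_surjective e.symm.toMonoidHom e.symm.surjective
  have hdis : ∀ g ∈ imA, g ∈ imM → g = 1 := fun g hA hM =>
    eq_one_of_simple_meet imA imM hsim hnorm (by rw [card_imA, card_imM]; norm_num) hA hM
  have hle : imA ⊔ imM ≤ (rep : G →* GL112).range := by
    refine sup_le (fun x hx => Exists.elim hx fun v hv => ⟨_, hv.2⟩) ?_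
    rw [imM, Subgroup.closure_le]
    rintro g (h | h) <;> exact ⟨_, h.symm⟩
  have := Subgroup.card_dvd_of_le hle
  rwa [card_sup_of_disjoint _ _ hnorm hdis, card_imA, card_imM] at this

/-- The power word. -/
def powWord (w : List ℕ) : ℕ → List ℕ
  | 0 => []
  | n + 1 => w ++ powWord w n

theorem gval_powWord (w : List ℕ) : ∀ n, gval (powWord w n) = gval w ^ n
  | 0 => (pow_zero _).symm
  | n + 1 => by rw [powWord, gval_append, gval_powWord w n, pow_succ']

/-- A prime divisor from a word. -/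
theorem prime_dvd {p : ℕ} (hp : p.Prime) (w : List ℕ)
    (h1 : Nat.beq (J4Cons78.wcode (powWord w p)) one = true)
    (h2 : Nat.beq (lane (J4Cons78.wcode w) 0) 1 = false) :
    p ∣ Nat.card (rep : G →* GL112).range := by
  haveI : Fact p.Prime := ⟨hp⟩
  have hpow : rep (gval w) ^ p = 1 := by
    rw [← map_pow, ← gval_powWord, ← map_one rep]
    exact rep_eq (by rw [mat, rep_gval, Nat.eq_of_beq_eq_true h1, val_one, mat_one])
  have hne : rep (gval w) ≠ 1 := by
    intro h
    have e : val (J4Cons78.wcode w) = 1 := by rw [← rep_gval, h, Units.val_one]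
    have hl : lane (J4Cons78.wcode w) 0 = 1 := by
      apply Nat.eq_of_testBit_eq
      intro j
      by_cases hj : j < 112
      · have := congrFun (congrFun e ⟨0, by norm_num⟩) ⟨j, hj⟩
        simp only [val, Matrix.of_apply, Matrix.one_apply, Fin.mk.injEq] at this
        rcases Nat.eq_zero_or_pos j with rfl | hj0
        · cases hb : (lane (J4Cons78.wcode w) 0).testBit 0
          · simp [hb, bit] at this
          · simp
        · rw [Nat.testBit_lt_two_pow (x := 1) (i := j) (Nat.one_lt_two_pow (by omega))]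
          cases hb : (lane (J4Cons78.wcode w) 0).testBit j
          · rfl
          · simp [hb, bit, show (0 : ℕ) ≠ j by omega] at this
      · rw [Nat.testBit_lt_two_pow (lt_of_lt_of_le (lane_lt _ _) (Nat.pow_le_pow_right (by norm_num) (by omega))),
          Nat.testBit_lt_two_pow (x := 1) (i := j) (Nat.one_lt_two_pow (by omega))]
    rw [hl] at h2
    exact absurd h2 (by decide)
  rw [← orderOf_eq_prime hpow hne]
  exact Subgroup.orderOf_dvd_natCard _ ⟨_, rfl⟩

theorem words_ok : Nat.beq (J4Cons78.wcode (powWord word29 29)) one = true ∧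
    Nat.beq (lane (J4Cons78.wcode word29) 0) 1 = false ∧
    Nat.beq (J4Cons78.wcode (powWord word31 31)) one = true ∧
    Nat.beq (lane (J4Cons78.wcode word31) 0) 1 = false ∧
    Nat.beq (J4Cons78.wcode (powWord word37 37)) one = true ∧
    Nat.beq (lane (J4Cons78.wcode word37) 0) 1 = false ∧
    Nat.beq (J4Cons78.wcode (powWord word43 43)) one = true ∧
    Nat.beq (lane (J4Cons78.wcode word43) 0) 1 = false := by decide +kernel

theorem elevA_ok : Nat.beq (J4Cons78.wcode elevWordA) elevA = true := by decide +kernel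

theorem elevB_ok : Nat.beq (J4Cons78.wcode elevWordB) elevB = true := by decide +kernel

/-- The powers of a code, the last one first. -/
def pows (a : ℕ) : ℕ → List ℕ
  | 0 => [one]
  | n + 1 => match pows a n with
    | [] => []
    | x :: l => mul lanesMask x a :: x :: l

theorem elev_ok : Nat.beq (mul lanesMask elevA elevB) (mul lanesMask (mul lanesMask elevB elevA) elevC) = true ∧
    Nat.beq (mul lanesMask elevA elevC) (mul lanesMask elevC elevA) = true ∧
    Nat.beq (mul lanesMask elevB elevC) (mul lanesMask elevC elevB) = true ∧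
    ((pows elevA 11).headD 0 == one) = true ∧ ((pows elevB 11).headD 0 == one) = true ∧
    ((pows elevC 11).headD 0 == one) = true ∧
    ((pows elevA 10).all fun a => !(a == elevC) ) = true ∧
    ((pows elevA 10).all fun a => (pows elevC 10).all fun c => !(mul lanesMask a c == elevB)) = true ∧
    (elevA == one) = false := by decide +kernel

theorem val_inj_code {a b : ℕ} (ha : a < 2 ^ (112 * 112)) (hb : b < 2 ^ (112 * 112)) (h : val a = val b) :
    a = b := by
  apply Nat.eq_of_testBit_eq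
  intro t
  rcases Nat.lt_or_ge t (112 * 112) with ht | ht
  · have := congrFun (congrFun h ⟨t / 112, by omega⟩) ⟨t % 112, Nat.mod_lt _ (by norm_num)⟩
    simp only [val, Matrix.of_apply, testBit_lane, decide_eq_true (Nat.mod_lt t (by norm_num : 112 > 0)),
      Bool.true_and, Nat.div_add_mod] at this
    revert this
    cases a.testBit t <;> cases b.testBit t <;> simp [bit]
  · rw [Nat.testBit_lt_two_pow (lt_of_lt_of_le ha (Nat.pow_le_pow_right (by norm_num) ht)),
      Nat.testBit_lt_two_pow (lt_of_lt_of_le hb (Nat.pow_le_pow_right (by norm_num) ht))]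

theorem elev_small : ([elevA, elevB, elevC, one].all fun c => Nat.blt c (2 ^ (112 * 112))) = true ∧
    ((pows elevA 11).all fun a => Nat.blt a (2 ^ (112 * 112)) &&
      (pows elevC 10).all fun c => Nat.blt (mul lanesMask a c) (2 ^ (112 * 112))) = true := by decide +kernel

theorem val_pows (a : ℕ) : ∀ n, ∃ l, pows a n = l ∧ l.length = n + 1 ∧
    ∀ k ≤ n, val (l.getD (n - k) 0) = val a ^ k
  | 0 => ⟨_, rfl, rfl, fun k hk => by
      obtain rfl : k = 0 := by omega
      simp [pows, val_one]⟩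
  | n + 1 => by
    obtain ⟨l, hl, hlen, h⟩ := val_pows a n
    obtain ⟨x, l', rfl⟩ : ∃ x l', l = x :: l' := by
      cases l with
      | nil => simp at hlen
      | cons x l' => exact ⟨x, l', rfl⟩
    refine ⟨mul lanesMask x a :: x :: l', by simp [pows, hl], by simp at hlen ⊢; omega, fun k hk => ?_⟩
    rcases Nat.lt_or_ge n k with hk' | hk'
    · obtain rfl : k = n + 1 := by omega
      have hx := h n le_rfl
      simp only [Nat.sub_self, List.getD_cons_zero] at hx ⊢
      rw [val_mul, hx, pow_succ]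
    · rw [show n + 1 - k = (n - k) + 1 by omega, List.getD_cons_succ]
      exact h k hk'

theorem mem_pows {a : ℕ} {n k : ℕ} (hk : k ≤ n) : ∃ c ∈ pows a n, val c = val a ^ k := by
  obtain ⟨l, hl, hlen, h⟩ := val_pows a n
  refine ⟨l.getD (n - k) 0, ?_, h k hk⟩
  rw [hl, List.getD_eq_getElem _ _ (by omega)]
  exact List.getElem_mem _

theorem p11 (g : GL112) (c : ℕ) (hg : (g : Mat112) = val c) (h : ((pows c 11).headD 0 == one) = true) :
    g ^ 11 = 1 := by
  obtain ⟨l, hl, hlen, hv⟩ := val_pows c 11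
  have hx := hv 11 le_rfl
  rw [Nat.sub_self] at hx
  rw [hl] at h
  cases l with
  | nil => simp at hlen
  | cons x l' =>
    rw [List.getD_cons_zero, show x = one from beq_iff_eq.1 h, val_one] at hx
    exact Units.ext (by rw [Units.val_pow_eq_pow_val, hg, ← hx, Units.val_one])

theorem pows_small {c : ℕ} (h : c ∈ pows elevA 10) :
    c < 2 ^ (112 * 112) ∧ ∀ d ∈ pows elevC 10, mul lanesMask c d < 2 ^ (112 * 112) := by
  have h11 : c ∈ pows elevA 11 := by
    show c ∈ (match pows elevA 10 with | [] => [] | x :: l => mul lanesMask x elevA :: x :: l)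
    cases hp : pows elevA 10 with
    | nil => rw [hp] at h; simp at h
    | cons x l => rw [hp] at h; exact List.mem_cons_of_mem _ h
  have := List.all_eq_true.1 elev_small.2 c h11
  simp only [Bool.and_eq_true, List.all_eq_true, Nat.blt_eq] at this
  exact this

theorem eleven_core {A B C : GL112} (vA : (A : Mat112) = val elevA) (vB : (B : Mat112) = val elevB)
    (vC : (C : Mat112) = val elevC) (R : Subgroup GL112) (hAR : A ∈ R) (hBR : B ∈ R) : 11 ^ 3 ∣ Nat.card R := by
  obtain ⟨hcomm, hac, hbc, ha11, hb11, hc11, hcA, hbAC, ha1⟩ := elev_ok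
  obtain ⟨hsm, -⟩ := elev_small
  simp only [List.all_cons, List.all_nil, Bool.and_true, Bool.and_eq_true, Nat.blt_eq] at hsm
  obtain ⟨hsA, hsB, hsC, hs1⟩ := hsm
  refine dvd_of_heisenberg R (A := A) (B := B) (C := C) ?_ hAR hBR ?_ ?_ (p11 A _ vA ha11) (p11 B _ vB hb11)
    (p11 C _ vC hc11) ?_ ?_ ?_
  · exact Units.ext (by
      rw [Units.val_mul, Units.val_mul, Units.val_mul, vA, vB, vC, ← val_mul, ← val_mul, ← val_mul,
        Nat.eq_of_beq_eq_true hcomm])
  · exact Units.ext (by rw [Units.val_mul, Units.val_mul, vA, vC, ← val_mul, ← val_mul, Nat.eq_of_beq_eq_true hac])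
  · exact Units.ext (by rw [Units.val_mul, Units.val_mul, vB, vC, ← val_mul, ← val_mul, Nat.eq_of_beq_eq_true hbc])
  · intro h
    rw [h, Units.val_one, ← val_one] at vA
    rw [← val_inj_code hs1 hsA vA, beq_self_eq_true] at ha1
    simp at ha1
  · intro i hi h
    obtain ⟨c, hc, hv⟩ := mem_pows (a := elevA) (n := 10) hi
    have hc' := List.all_eq_true.1 hcA c hc
    have he : val c = val elevC := by rw [hv, ← vA, ← Units.val_pow_eq_pow_val, h, vC]
    rw [val_inj_code (pows_small hc).1 hsC he, beq_self_eq_true] at hc'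
    simp at hc'
  · intro i hi j hj h
    obtain ⟨a, ha, hva⟩ := mem_pows (a := elevA) (n := 10) hi
    obtain ⟨c, hc, hvc⟩ := mem_pows (a := elevC) (n := 10) hj
    have hne := List.all_eq_true.1 (List.all_eq_true.1 hbAC a ha) c hc
    have hv : val (mul lanesMask a c) = val elevB := by
      rw [val_mul, hva, hvc, ← vA, ← vC, ← Units.val_pow_eq_pow_val, ← Units.val_pow_eq_pow_val,
        ← Units.val_mul, h, vB]
    rw [val_inj_code ((pows_small ha).2 c hc) hsB hv, beq_self_eq_true] at hne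
    simp at hne

theorem eleven_cubed : 11 ^ 3 ∣ Nat.card (rep : G →* GL112).range := by
  have vA : ((rep (gval elevWordA) : GL112) : Mat112) = val elevA := by
    rw [rep_gval, Nat.eq_of_beq_eq_true elevA_ok]
  have vB : ((rep (gval elevWordB) : GL112) : Mat112) = val elevB := by
    rw [rep_gval, Nat.eq_of_beq_eq_true elevB_ok]
  have e : ∀ A B : GL112, (A : Mat112) = val elevA → (B : Mat112) = val elevB →
      (((B * A)⁻¹ * (A * B) : GL112) : Mat112) = val elevC := by
    intro A B hA hB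
    rw [Units.val_mul]
    have e : ((A * B : GL112) : Mat112) = ((B * A : GL112) : Mat112) * val elevC := by
      rw [Units.val_mul, Units.val_mul, hA, hB, ← val_mul, Nat.eq_of_beq_eq_true elev_ok.1, val_mul, val_mul]
    rw [e, ← mul_assoc, ← Units.val_mul, inv_mul_cancel, Units.val_one, one_mul]
  exact eleven_core vA vB (e _ _ vA vB) _ ⟨_, rfl⟩ ⟨_, rfl⟩

/-- The order of J4 divides the order of the image. -/
theorem dvd_card_range : 86775571046077562880 ∣ Nat.card (rep : G →* GL112).range := by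
  obtain ⟨a29, b29, a31, b31, a37, b37, a43, b43⟩ := words_ok
  have h2 := dvd_of_H
  have e : (86775571046077562880 : ℕ) = 2 ^ 21 * 3 ^ 3 * 5 * 7 * 23 * 11 ^ 3 * 29 * 31 * 37 * 43 := by norm_num
  have hH : 2 ^ 21 * 3 ^ 3 * 5 * 7 * 23 ∣ Nat.card (rep : G →* GL112).range :=
    (show (2 ^ 21 * 3 ^ 3 * 5 * 7 * 23 : ℕ) ∣ 2 ^ 11 * 244823040 by norm_num).trans h2
  rw [e]
  exact Nat.Coprime.mul_dvd_of_dvd_of_dvd (by norm_num)
    (Nat.Coprime.mul_dvd_of_dvd_of_dvd (by norm_num)
      (Nat.Coprime.mul_dvd_of_dvd_of_dvd (by norm_num)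
        (Nat.Coprime.mul_dvd_of_dvd_of_dvd (by norm_num)
          (Nat.Coprime.mul_dvd_of_dvd_of_dvd (by norm_num) hH eleven_cubed)
          (prime_dvd (by norm_num) word29 a29 b29))
        (prime_dvd (by norm_num) word31 a31 b31))
      (prime_dvd (by norm_num) word37 a37 b37))
    (prime_dvd (by norm_num) word43 a43 b43)

/-- The same, for the subgroup generated by the three matrices. -/
theorem dvd_card_closure : 86775571046077562880 ∣ Nat.card (Subgroup.closure (Set.range img)) := by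
  refine dvd_card_range.trans (Subgroup.card_dvd_of_le ((range_le_closure rep).trans ?_))
  refine Subgroup.closure_mono (Set.range_subset_iff.2 fun a => ⟨a, ?_⟩)
  exact (rep_of a).symm

end Cfsg.Agent.Lib.J4Rep
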